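import Groth.Agent.ZarPair.Sections
import Groth.Agent.QC.Extend
import Groth.Agent.QC.SpecFT
import Groth.Agent.QC.PullbackTilde
import Groth.Agent.QC.Localisation
import Groth.Agent.LocFree.Props
import Mathlib.RingTheory.Spectrum.Prime.Topology
import Mathlib.Algebra.Category.ModuleCat.ChangeOfRings

/-!
# Zariski pairs: coherent modules on an open which agree after base change
-/

universe u

open CategoryTheory AlgebraicGeometry TopologicalSpace Opposite Groth.Agent.QC TensorProduct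

set_option backward.isDefEq.respectTransparency false
set_option linter.style.haveILetI false

noncomputable section

namespace Groth.Agent.ZarPair

variable {R : CommRingCat.{u}}

theorem exists_tilde_restrict [IsNoetherianRing R] (U : (Spec R).Opens) (E : (U : Scheme.{u}).Modules)
    (hq : Coh.IsQCoh E) (hft : CohB1.IsFT E) :
    ∃ N : ModuleCat.{u} R, Module.Finite R N ∧ Nonempty ((tilde N).restrict U.ι ≅ E) := by
  haveI : E.IsQuasicoherent := hq
  haveI hF : ((Scheme.Modules.pushforward U.ι).obj E).IsQuasicoherent := isQCoh_pushforward U.ι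
  let i := ((Scheme.Modules.restrictFunctorAdjCounitIso U.ι).app E).inv
  obtain ⟨G, _, e, -, hG, hGft, -⟩ :=
    exists_ft_extension (F := (Scheme.Modules.pushforward U.ι).obj E)
      (fun x => ⟨⊤, trivial, by
        rw [noetherianSpace_set_iff]
        exact fun t _ => (NoetherianSpace.isCompact t)⟩) U E i hft
  haveI : G.IsQuasicoherent := hG
  haveI : Module.Finite Γ(Spec R, ⊤) Γ(G, ⊤) := finite_sections (isAffineOpen_top _) hGft
  exact ⟨_, finite_top_of_finite_sections G,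
    ⟨(Scheme.Modules.restrictFunctor U.ι).mapIso (isoTildeΓ G) ≪≫ e⟩⟩

theorem exists_basicOpen_cover [IsNoetherianRing R] (U : (Spec R).Opens) :
    ∃ (k : ℕ) (f : Fin k → R), (∀ a, PrimeSpectrum.basicOpen (f a) ≤ U) ∧
      ∀ x ∈ U, ∃ a, x ∈ PrimeSpectrum.basicOpen (f a) := by
  obtain ⟨s, hs⟩ := (PrimeSpectrum.isOpen_iff _).mp U.isOpen
  obtain ⟨k, f, hf⟩ := Submodule.fg_iff_exists_fin_generating_family.mp
    (IsNoetherian.noetherian (Ideal.span s))
  have key : ∀ x, x ∈ U ↔ ∃ a, f a ∉ x.asIdeal := fun x => by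
    rw [← not_iff_not, not_exists]
    have h1 : x ∉ U ↔ x ∈ PrimeSpectrum.zeroLocus (Set.range f) := by
      rw [← PrimeSpectrum.zeroLocus_span, show Ideal.span (Set.range f) = Ideal.span s from hf,
        PrimeSpectrum.zeroLocus_span, ← hs]
      rfl
    rw [h1, PrimeSpectrum.mem_zeroLocus, Set.range_subset_iff]
    simp
  exact ⟨k, f, fun a x hx => (key x).mpr ⟨a, hx⟩, fun x hx => (key x).mp hx⟩

section Descend

variable {S : CommRingCat.{u}} (φ : R ⟶ S) (U : (Spec R).Opens)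

/-- The base change of a module along `φ`. -/
abbrev bc (M : ModuleCat.{u} R) : ModuleCat.{u} S := (ModuleCat.extendScalars.{u, u, u} φ.hom).obj M

/-- The pullback of `M~|_U` to the preimage of `U`. -/
def pullRestrictIso (M : ModuleCat.{u} R) :
    (Scheme.Modules.pullback (Spec.map φ ∣_ U)).obj ((tilde M).restrict U.ι) ≅
      (tilde (bc φ M)).restrict ((Spec.map φ) ⁻¹ᵁ U).ι :=
  (Scheme.Modules.pullback _).mapIso ((Scheme.Modules.restrictFunctorIsoPullback U.ι).app _) ≪≫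
    (Scheme.Modules.pullbackComp _ _).app _ ≪≫
    (Scheme.Modules.pullbackCongr (morphismRestrict_ι (Spec.map φ) U)).app _ ≪≫
    ((Scheme.Modules.pullbackComp _ _).app _).symm ≪≫
    ((Scheme.Modules.restrictFunctorIsoPullback _).app _).symm ≪≫
    (Scheme.Modules.restrictFunctor _).mapIso ((pullbackTildeIso φ).app M)

theorem exists_hom_of_iso [IsNoetherianRing R] [IsNoetherianRing S] (J : Ideal R)
    (hJ : letI := φ.hom.toAlgebra; SameQuot (A' := S) J) (hJ₀ : J ≤ (⊥ : Ideal R).jacobson)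
    (hJ' : J.map φ.hom ≤ (⊥ : Ideal S).jacobson) {k : ℕ} (f : Fin k → R)
    (hfU : ∀ a, PrimeSpectrum.basicOpen (f a) ≤ U) (hf : J ≤ (Ideal.span (Set.range f)).radical)
    (M N : ModuleCat.{u} R) [Module.Finite R M] [Module.Finite R N]
    (θ : (tilde (bc φ M)).restrict ((Spec.map φ) ⁻¹ᵁ U).ι ≅ (tilde (bc φ N)).restrict ((Spec.map φ) ⁻¹ᵁ U).ι) :
    ∃ (m : ℕ) (g : ↥(Ideal.span (Set.range f) ^ m • (⊤ : Submodule R M)) →ₗ[R] N), LSurj f g := by
  letI := φ.hom.toAlgebra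
  set V := (Spec.map φ) ⁻¹ᵁ U
  have hV : ∀ a, PrimeSpectrum.basicOpen ((φ.hom ∘ f) a) ≤ V := fun a x hx => hfU a (show _ from hx)
  haveI : Module.Finite S (bc φ M) := inferInstanceAs (Module.Finite S (S ⊗[R] M))
  haveI : Module.Finite S (bc φ N) := inferInstanceAs (Module.Finite S (S ⊗[R] N))
  haveI : Module.Finite S (roof (φ.hom ∘ f) θ) := Module.Finite.iff_fg.mpr (IsNoetherian.noetherian _)
  exact exists_hom_descend hJ hJ₀ hJ' f hf (M := M) (N := N)
    (roofFst (φ.hom ∘ f) θ) (roofSnd (φ.hom ∘ f) θ)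
    (linj_roofFst hV θ) (lsurj_roofFst hV θ) (lsurj_roofSnd hV θ)

theorem nonempty_iso [IsNoetherianRing R] [IsNoetherianRing S] (J : Ideal R)
    (hJ : letI := φ.hom.toAlgebra; SameQuot (A' := S) J) (hJ₀ : J ≤ (⊥ : Ideal R).jacobson)
    (hJ' : J.map φ.hom ≤ (⊥ : Ideal S).jacobson)
    (hU : ∀ p : PrimeSpectrum R, ¬ J ≤ p.asIdeal → p ∈ U) (E₁ E₂ : (U : Scheme.{u}).Modules)
    (h₁ : Coh.IsQCoh E₁) (h₁' : CohB1.IsFT E₁) (h₂ : Coh.IsQCoh E₂) (h₂' : CohB1.IsFT E₂)
    (hiso : Nonempty ((Scheme.Modules.pullback (Spec.map φ ∣_ U)).obj E₁ ≅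
      (Scheme.Modules.pullback (Spec.map φ ∣_ U)).obj E₂)) : Nonempty (E₁ ≅ E₂) := by
  obtain ⟨ι⟩ := hiso
  obtain ⟨M, hM, ⟨e₁⟩⟩ := exists_tilde_restrict U E₁ h₁ h₁'
  obtain ⟨N, hN, ⟨e₂⟩⟩ := exists_tilde_restrict U E₂ h₂ h₂'
  let P := Scheme.Modules.pullback (Spec.map φ ∣_ U)
  let θ := (pullRestrictIso φ U M).symm ≪≫ P.mapIso e₁ ≪≫ ι ≪≫ P.mapIso e₂.symm ≪≫ pullRestrictIso φ U N
  obtain ⟨k, f, hfU, hcov⟩ := exists_basicOpen_cover U
  have hf : J ≤ (Ideal.span (Set.range f)).radical := by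
    rw [Ideal.radical_eq_sInf]
    refine le_sInf fun p ⟨hp, hp'⟩ => ?_
    by_contra h
    obtain ⟨a, ha⟩ := hcov ⟨p, hp'⟩ (hU _ h)
    exact ha (hp (Ideal.subset_span (Set.mem_range_self a)))
  obtain ⟨m, g, hg⟩ := exists_hom_of_iso φ U J hJ hJ₀ hJ' f hfU hf M N θ
  obtain ⟨m', g', hg'⟩ := exists_hom_of_iso φ U J hJ hJ₀ hJ' f hfU hf N M θ.symm
  let Q := Ideal.span (Set.range f) ^ m • (⊤ : Submodule R M)
  let u : ModuleCat.of R Q ⟶ M := ModuleCat.ofHom Q.subtype
  let v : ModuleCat.of R Q ⟶ N := ModuleCat.ofHom g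
  haveI := isIso_restrict f u (fun x hx a => ⟨0, by simp only [pow_zero, one_smul]; exact Subtype.ext hx⟩)
    (fun y a => ⟨m, ⟨f a ^ m • y, Submodule.smul_mem_smul (pow_mem_span f a m) trivial⟩, rfl⟩) hfU hcov
  haveI := isIso_restrict f v (linj_of_two f g hg g' hg') hg hfU hcov
  exact ⟨e₁.symm ≪≫ (asIso ((Scheme.Modules.restrictFunctor U.ι).map (tilde.map u))).symm ≪≫
    asIso ((Scheme.Modules.restrictFunctor U.ι).map (tilde.map v)) ≪≫ e₂⟩

end Descend

end Groth.Agent.ZarPair
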