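import Groth.Agent.ZarPair.Algebra
import Groth.Agent.QC.Closure
import Groth.Agent.QC.Coherent
import Groth.Agent.QC.AffineSpec

/-!
# Zariski pairs: from isomorphisms on an open to roofs of modules
-/

universe u

open CategoryTheory AlgebraicGeometry TopologicalSpace Opposite Groth.Agent.QC

set_option backward.isDefEq.respectTransparency false

noncomputable section

namespace Groth.Agent.ZarPair

variable {R : CommRingCat.{u}}

/-- The map from a module to the sections of its tilde. -/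
def tOp (N : ModuleCat.{u} R) (O : (Spec R).Opens) : N →ₗ[R] Γ(tilde N, O) :=
  (tilde.toOpen N O).hom

variable {M N : ModuleCat.{u} R}

lemma res_tOp {O' O : (Spec R).Opens} (h : O' ≤ O) (x : N) : res (tilde N) h (tOp N O x) = tOp N O' x :=
  congr($(tilde.toOpen_res N O O' (homOfLE h)) x)

lemma res_smul_spec (G : (Spec R).Modules) {O' O : (Spec R).Opens} (h : O' ≤ O) (r : R) (s : Γ(G, O)) :
    res G h (r • s) = r • res G h s :=
  Scheme.Modules.map_smul_Spec _ r s

lemma app_tOp (u : M ⟶ N) (O : (Spec R).Opens) (x : M) :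
    (tilde.map u).app O (tOp M O x) = tOp N O (u x) :=
  toOpen_map_apply u O x

lemma app_smul_spec {G H : (Spec R).Modules} (φ : G ⟶ H) (O : (Spec R).Opens) (r : R) (s : Γ(G, O)) :
    φ.app O (r • s) = r • φ.app O s :=
  ((modulesSpecToSheaf.map φ).hom.app (op O)).hom.map_smul r s

lemma exists_tOp {O : (Spec R).Opens} {r : R} (hO : O = PrimeSpectrum.basicOpen r) (s : Γ(tilde N, O)) :
    ∃ (n : ℕ) (x : N), r ^ n • s = tOp N O x := by
  subst hO
  obtain ⟨⟨x, ⟨_, n, rfl⟩⟩, hx⟩ :=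
    IsLocalizedModule.surj (Submonoid.powers r) (tilde.toOpen N (PrimeSpectrum.basicOpen r)).hom s
  exact ⟨n, x, hx⟩

lemma exists_smul_eq_zero {O : (Spec R).Opens} {r : R} (hO : O = PrimeSpectrum.basicOpen r) {x : N}
    (h : tOp N O x = 0) : ∃ n : ℕ, r ^ n • x = 0 := by
  subst hO
  obtain ⟨⟨_, n, rfl⟩, hn⟩ :=
    (IsLocalizedModule.eq_zero_iff (Submonoid.powers r) (tilde.toOpen N (PrimeSpectrum.basicOpen r)).hom).mp h
  exact ⟨n, hn⟩

lemma smul_cancel {G : (Spec R).Modules} {O : (Spec R).Opens} {r : R} (hO : O ≤ PrimeSpectrum.basicOpen r) (n : ℕ)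
    {s t : Γ(G, O)} (h : r ^ n • s = r ^ n • t) : s = t :=
  ((Scheme.Modules.isSMulRegular_of_le_basicOpen hO).pow n) h

lemma surj_smul {G : (Spec R).Modules} {O : (Spec R).Opens} {r : R} (hO : O ≤ PrimeSpectrum.basicOpen r) (n : ℕ)
    (s : Γ(G, O)) : ∃ t, r ^ n • t = s := by
  have h := (G.isUnit_algebraMap_end_of_le_basicOpen r hO).pow n
  rw [← map_pow, Module.End.isUnit_iff] at h
  exact h.surjective s

section Bij

variable {r : ℕ} (f : Fin r → R)

theorem bijective_app (u : M ⟶ N) (hi : LInj f u.hom) (hs : LSurj f u.hom) {O : (Spec R).Opens} (a : Fin r)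
    (hO : O = PrimeSpectrum.basicOpen (f a)) : Function.Bijective ((tilde.map u).app O) := by
  constructor
  · refine (injective_iff_map_eq_zero _).mpr fun s hs0 => ?_
    obtain ⟨n, x, hx⟩ := exists_tOp hO s
    have h0 : tOp N O (u x) = 0 := by rw [← app_tOp, ← hx, app_smul_spec, hs0, smul_zero]
    obtain ⟨k, hk⟩ := exists_smul_eq_zero hO h0
    obtain ⟨l, hl⟩ := hi (f a ^ k • x) (by rw [map_smul]; exact hk) a
    refine smul_cancel hO.le (l + k + n) ?_
    rw [smul_zero, pow_add, pow_add, mul_smul, mul_smul, hx, ← map_smul, ← map_smul, hl, map_zero]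
  · intro t
    obtain ⟨n, y, hy⟩ := exists_tOp hO t
    obtain ⟨k, x, hx⟩ := hs y a
    obtain ⟨s, hs⟩ := surj_smul (G := tilde M) hO.le (k + n) (tOp M O x)
    refine ⟨s, smul_cancel hO.le (k + n) ?_⟩
    rw [← app_smul_spec, hs, app_tOp, pow_add, mul_smul, hy, ← map_smul]
    exact congrArg _ hx

theorem isIso_restrict (u : M ⟶ N) (hi : LInj f u.hom) (hs : LSurj f u.hom) {U : (Spec R).Opens}
    (hle : ∀ a, PrimeSpectrum.basicOpen (f a) ≤ U) (hcov : ∀ x ∈ U, ∃ a, x ∈ PrimeSpectrum.basicOpen (f a)) :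
    IsIso ((Scheme.Modules.restrictFunctor U.ι).map (tilde.map u)) := by
  have hW : ∀ a, U.ι ''ᵁ (U.ι ⁻¹ᵁ PrimeSpectrum.basicOpen (f a)) = PrimeSpectrum.basicOpen (f a) := fun a => by
    rw [Scheme.Hom.image_preimage_eq_opensRange_inf, Scheme.Opens.opensRange_ι]
    exact inf_eq_right.mpr (hle a)
  have hA : ∀ a, IsAffineOpen (U.ι ⁻¹ᵁ PrimeSpectrum.basicOpen (f a)) := fun a => by
    rw [← U.ι.isAffineOpen_iff_of_isOpenImmersion, hW a]
    exact IsAffineOpen.Spec_basicOpen (f a)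
  refine isIso_of_restrict_cover (fun a => (hA a).fromSpec) (fun x => ?_) _ fun a =>
    isIso_restrict_of_bijective (hA a) (isQCoh_restrict _ (isQCoh_tilde M)) (isQCoh_restrict _ (isQCoh_tilde N)) _ ?_
  · obtain ⟨a, ha⟩ := hcov (U.ι x) x.2
    exact ⟨a, (hA a).range_fromSpec.symm ▸ ha⟩
  · exact bijective_app f u hi hs a (hW a)

end Bij

section Roof

variable {V : (Spec R).Opens}

/-- `D(r)` seen through `V`. -/
abbrev imgD (V : (Spec R).Opens) (r : R) : (Spec R).Opens :=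
  V.ι ''ᵁ (V.ι ⁻¹ᵁ PrimeSpectrum.basicOpen r)

lemma imgD_eq {r : R} (h : PrimeSpectrum.basicOpen r ≤ V) : imgD V r = PrimeSpectrum.basicOpen r := by
  rw [imgD, Scheme.Hom.image_preimage_eq_opensRange_inf, Scheme.Opens.opensRange_ι]
  exact inf_eq_right.mpr h

lemma imgD_mono {r t : R} (h : PrimeSpectrum.basicOpen r ≤ PrimeSpectrum.basicOpen t) : imgD V r ≤ imgD V t :=
  Scheme.Hom.image_mono _ (V.ι.preimage_mono h)

/-- An isomorphism on `V` acting on sections over `D(r)`. -/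
def th (θ : (tilde M).restrict V.ι ⟶ (tilde N).restrict V.ι) (r : R) :
    Γ(tilde M, imgD V r) →+ Γ(tilde N, imgD V r) :=
  (θ.app (V.ι ⁻¹ᵁ PrimeSpectrum.basicOpen r)).hom

lemma th_smul (θ : (tilde M).restrict V.ι ⟶ (tilde N).restrict V.ι) (r c : R) (s : Γ(tilde M, imgD V r)) :
    th θ r (c • s) = c • th θ r s := by
  set W := V.ι ⁻¹ᵁ PrimeSpectrum.basicOpen r
  set c' := (Spec R).presheaf.map (imgD V r).leTop.op ((Scheme.ΓSpecIso R).inv c) with hc'
  have h1 : ∀ (G : (Spec R).Modules) (t : Γ(G.restrict V.ι, W)),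
      (show Γ(G, imgD V r) from ((V.ι.appIso W).hom c' • t)) = c' • (show Γ(G, imgD V r) from t) := fun G t =>
    (G.smul_restrictAppIso_hom_apply V.ι W ((V.ι.appIso W).hom c') t).trans (by
      rw [Iso.hom_inv_id_apply]
      rfl)
  have h2 := h1 (tilde N) (θ.app W s)
  exact ((congrArg (θ.app W) (h1 (tilde M) s).symm).trans ((appₗ θ W).map_smul _ _)).trans h2

lemma th_res (θ : (tilde M).restrict V.ι ⟶ (tilde N).restrict V.ι) {r t : R}
    (h : PrimeSpectrum.basicOpen r ≤ PrimeSpectrum.basicOpen t) (s : Γ(tilde M, imgD V t)) :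
    th θ r (res (tilde M) (imgD_mono h) s) = res (tilde N) (imgD_mono h) (th θ t s) :=
  (app_res θ (V.ι.preimage_mono h) s).symm

lemma th_inv (θ : (tilde M).restrict V.ι ≅ (tilde N).restrict V.ι) (r : R) (s : Γ(tilde N, imgD V r)) :
    th θ.hom r (th θ.inv r s) = s :=
  show (θ.inv ≫ θ.hom).app _ s = s by rw [Iso.inv_hom_id]; rfl

variable {k : ℕ} (f : Fin k → R)

/-- Pairs which correspond under `θ` over every `D(f a)`. -/
def roof (θ : (tilde M).restrict V.ι ≅ (tilde N).restrict V.ι) : Submodule R (M × N) where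
  carrier := {p | ∀ a, th θ.hom (f a) (tOp M _ p.1) = tOp N _ p.2}
  add_mem' {p q} hp hq a := by rw [Prod.fst_add, Prod.snd_add, map_add, map_add, map_add, hp a, hq a]
  zero_mem' a := by simp
  smul_mem' c p hp a := by rw [Prod.smul_fst, Prod.smul_snd, (tOp M _).map_smul, (tOp N _).map_smul, th_smul, hp a]

def roofFst (θ : (tilde M).restrict V.ι ≅ (tilde N).restrict V.ι) : roof f θ →ₗ[R] M :=
  (LinearMap.fst R M N).comp (roof f θ).subtype

def roofSnd (θ : (tilde M).restrict V.ι ≅ (tilde N).restrict V.ι) : roof f θ →ₗ[R] N :=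
  (LinearMap.snd R M N).comp (roof f θ).subtype

variable {f} (hV : ∀ a, PrimeSpectrum.basicOpen (f a) ≤ V)
  (θ : (tilde M).restrict V.ι ≅ (tilde N).restrict V.ι)
include hV

theorem linj_roofFst : LInj f (roofFst f θ) := by
  rintro ⟨⟨x, y⟩, hp⟩ (hx : x = 0) a
  subst hx
  obtain ⟨n, hn⟩ := exists_smul_eq_zero (imgD_eq (hV a)) (x := y) (by rw [← hp a, map_zero, map_zero])
  exact ⟨n, Subtype.ext (Prod.ext (smul_zero _) hn)⟩

theorem exists_roof (x : M) (i : Fin k) : ∃ (n : ℕ) (p : roof f θ), p.1.1 = f i ^ n • x := by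
  obtain ⟨n, y, hy⟩ := exists_tOp (imgD_eq (hV i)) (th θ.hom (f i) (tOp M _ x))
  have key : ∀ a, ∃ l : ℕ, f i ^ l • th θ.hom (f a) (tOp M _ (f i ^ n • x)) = f i ^ l • tOp N _ y := by
    intro a
    set d := th θ.hom (f a) (tOp M _ (f i ^ n • x)) - tOp N _ y with hd
    obtain ⟨q, z, hz⟩ := exists_tOp (imgD_eq (hV a)) d
    have hle₁ : PrimeSpectrum.basicOpen (f i * f a) ≤ PrimeSpectrum.basicOpen (f a) :=
      PrimeSpectrum.basicOpen_mul_le_right _ _
    have hle₂ : PrimeSpectrum.basicOpen (f i * f a) ≤ PrimeSpectrum.basicOpen (f i) :=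
      PrimeSpectrum.basicOpen_mul_le_left _ _
    have h0 : res (tilde N) (imgD_mono hle₁) d = 0 := by
      rw [hd, map_sub, ← th_res _ hle₁, res_tOp, res_tOp, ← res_tOp (imgD_mono hle₂), th_res _ hle₂,
        map_smul, th_smul, hy, res_tOp, sub_self]
    have hz0 : tOp N (imgD V (f i * f a)) z = 0 := by
      rw [← res_tOp (imgD_mono hle₁), ← hz, res_smul_spec, h0, smul_zero]
    obtain ⟨l, hl⟩ := exists_smul_eq_zero (imgD_eq (hle₁.trans (hV a))) hz0
    refine ⟨l, ?_⟩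
    rw [← sub_eq_zero, ← smul_sub, ← hd]
    refine smul_cancel (imgD_eq (hV a)).le (l + q) ?_
    rw [smul_zero, pow_add, mul_smul, smul_comm (f a ^ q), hz, ← map_smul, ← map_smul, smul_smul, ← mul_pow,
      mul_comm, hl, map_zero]
  choose l hl using key
  let L := Finset.univ.sup l
  refine ⟨L + n, ⟨(f i ^ (L + n) • x, f i ^ L • y), fun a => ?_⟩, rfl⟩
  obtain ⟨d, hd⟩ := Nat.exists_eq_add_of_le (Finset.le_sup (f := l) (Finset.mem_univ a))
  show th θ.hom (f a) (tOp M _ (f i ^ (L + n) • x)) = tOp N _ (f i ^ L • y)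
  have hL : L = d + l a := by rw [add_comm]; exact hd
  rw [pow_add, mul_smul, map_smul _ (f i ^ L), th_smul, map_smul _ (f i ^ L) y, hL, pow_add, mul_smul, mul_smul,
    hl a]

theorem lsurj_roofFst : LSurj f (roofFst f θ) := fun x i => by
  obtain ⟨n, p, hp⟩ := exists_roof hV θ x i
  exact ⟨n, p, hp⟩

theorem lsurj_roofSnd : LSurj f (roofSnd f θ) := fun y i => by
  obtain ⟨n, p, hp⟩ := exists_roof hV θ.symm y i
  refine ⟨n, ⟨(p.1.2, p.1.1), fun a => ?_⟩, hp⟩
  have := p.2 a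
  show th θ.hom (f a) (tOp M _ p.1.2) = tOp N _ p.1.1
  rw [← this]
  exact th_inv θ (f a) _

end Roof

end Groth.Agent.ZarPair
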