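import Mathlib.RingTheory.Filtration
import Mathlib.RingTheory.Nakayama
import Mathlib.RingTheory.Flat.FaithfullyFlat.Algebra
import Mathlib.RingTheory.Finiteness.Ideal
import Mathlib.Algebra.Module.FinitePresentation
import Mathlib.RingTheory.OrzechProperty
import Mathlib.RingTheory.Localization.Finiteness
import Mathlib.RingTheory.Flat.Tensor
import Mathlib.RingTheory.Ideal.Quotient.Operations

/-!
# Zariski pairs: maps which are surjective off a small closed set descend by approximation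

`φ : A → A'` a map of Noetherian rings, `J` in the Jacobson radicals with equal quotients mod `J ^ n`.
Modules are compared on the open `⋃ D(f a)`, where `J ≤ √(f a)`.
-/

set_option autoImplicit false

universe u

open TensorProduct

namespace Groth.Agent.ZarPair

section Killed

variable {A : Type u} [CommRing A] {r : ℕ} (f : Fin r → A)
variable {M N P : Type u} [AddCommGroup M] [Module A M] [AddCommGroup N] [Module A N] [AddCommGroup P] [Module A P]

/-- injective over every `D(f a)` -/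
def LInj (h : M →ₗ[A] N) : Prop := ∀ x, h x = 0 → ∀ a, ∃ n : ℕ, f a ^ n • x = 0

/-- surjective over every `D(f a)` -/
def LSurj (h : M →ₗ[A] N) : Prop := ∀ (y : N) (a), ∃ (n : ℕ) (x : M), h x = f a ^ n • y

theorem exists_pow_smul_le [IsNoetherianRing A] [Module.Finite A M] (S : Submodule A M)
    (h : ∀ (y : M) (a), ∃ n : ℕ, f a ^ n • y ∈ S) :
    ∃ k : ℕ, Ideal.span (Set.range f) ^ k • (⊤ : Submodule A M) ≤ S := by
  have hrad : Ideal.span (Set.range f) ≤ (S.colon Set.univ).radical := by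
    rw [Ideal.span_le]
    rintro _ ⟨a, rfl⟩
    let c : ℕ →o Submodule A M := ⟨fun n => S.comap (LinearMap.lsmul A M (f a ^ n)), fun n n' hn y hy => by
      show f a ^ n' • y ∈ S
      obtain ⟨d, rfl⟩ := Nat.exists_eq_add_of_le hn
      rw [pow_add, mul_comm, ← smul_smul]
      exact S.smul_mem _ hy⟩
    obtain ⟨n, hn⟩ := monotone_stabilizes_iff_noetherian.mpr (inferInstance : IsNoetherian A M) c
    refine ⟨n, Submodule.mem_colon.mpr fun y _ => ?_⟩
    obtain ⟨l, hl⟩ := h y a
    have : y ∈ c (max n l) := c.monotone (le_max_right n l) hl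
    rw [← hn _ (le_max_left n l)] at this
    exact this
  obtain ⟨k, hk⟩ := Ideal.exists_pow_le_of_le_radical_of_fg hrad (IsNoetherian.noetherian _)
  exact ⟨k, Submodule.smul_le.mpr fun x hx y _ => Submodule.mem_colon.mp (hk hx) y trivial⟩

theorem LSurj.exists_pow [IsNoetherianRing A] [Module.Finite A N] {h : M →ₗ[A] N} (hh : LSurj f h) :
    ∃ k : ℕ, Ideal.span (Set.range f) ^ k • (⊤ : Submodule A N) ≤ LinearMap.range h :=
  exists_pow_smul_le f _ fun y a => by
    obtain ⟨n, x, hx⟩ := hh y a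
    exact ⟨n, x, hx⟩

theorem LInj.exists_pow [IsNoetherianRing A] [Module.Finite A M] {h : M →ₗ[A] N} (hh : LInj f h) :
    ∃ k : ℕ, Ideal.span (Set.range f) ^ k • LinearMap.ker h = ⊥ := by
  haveI : Module.Finite A (LinearMap.ker h) := Module.Finite.iff_fg.mpr (IsNoetherian.noetherian _)
  obtain ⟨k, hk⟩ := exists_pow_smul_le f (⊥ : Submodule A (LinearMap.ker h)) fun y a => by
    obtain ⟨n, hn⟩ := hh y.1 (LinearMap.mem_ker.mp y.2) a
    exact ⟨n, Submodule.mem_bot A |>.mpr (Subtype.ext hn)⟩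
  refine ⟨k, eq_bot_iff.mpr (Submodule.smul_le.mpr fun x hx y hy => ?_)⟩
  have := hk (Submodule.smul_mem_smul hx (Submodule.mem_top (x := (⟨y, hy⟩ : LinearMap.ker h))))
  exact congrArg Subtype.val ((Submodule.mem_bot A).mp this)

theorem pow_mem_span (a : Fin r) (n : ℕ) : f a ^ n ∈ Ideal.span (Set.range f) ^ n :=
  Ideal.pow_mem_pow (Ideal.subset_span (Set.mem_range_self a)) n

/-- A roof which is bijective on the open gives a map out of some `I ^ m • M`. -/
theorem exists_hom_of_roof [IsNoetherianRing A] [Module.Finite A M] [Module.Finite A N] [Module.Finite A P]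
    (a : P →ₗ[A] M) (b : P →ₗ[A] N) (ha : LInj f a) (ha' : LSurj f a) (hb : LSurj f b) :
    ∃ (m : ℕ) (g : ↥(Ideal.span (Set.range f) ^ m • (⊤ : Submodule A M)) →ₗ[A] N), LSurj f g := by
  set I := Ideal.span (Set.range f)
  obtain ⟨k₁, hk₁⟩ := ha.exists_pow
  obtain ⟨k₂, hk₂⟩ := ha'.exists_pow
  obtain ⟨c, hc⟩ := I.exists_pow_inf_eq_pow_smul (LinearMap.ker a)
  let s := c + k₁
  let Ps : Submodule A P := I ^ s • ⊤
  have hinj : Function.Injective (a.comp Ps.subtype) := by
    rw [injective_iff_map_eq_zero]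
    intro x hx
    have h1 : x.1 ∈ I ^ s • (⊤ : Submodule A P) ⊓ LinearMap.ker a := ⟨x.2, hx⟩
    rw [hc s (Nat.le_add_right c k₁)] at h1
    have h2 : I ^ (s - c) • (I ^ c • ⊤ ⊓ LinearMap.ker a) ≤ (⊥ : Submodule A P) := by
      rw [show s - c = k₁ from Nat.add_sub_cancel_left c k₁, ← hk₁]
      exact smul_mono_right _ inf_le_right
    exact Subtype.ext ((Submodule.mem_bot A).mp (h2 h1))
  let m := s + k₂
  have hle : I ^ m • (⊤ : Submodule A M) ≤ LinearMap.range (a.comp Ps.subtype) := by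
    rw [LinearMap.range_comp, Submodule.range_subtype, Submodule.map_smul'', Submodule.map_top, pow_add,
      Submodule.mul_smul]
    exact smul_mono_right _ hk₂
  let e := LinearEquiv.ofInjective (a.comp Ps.subtype) hinj
  refine ⟨m, (b.comp Ps.subtype).comp (e.symm.toLinearMap.comp (Submodule.inclusion hle)), fun y i => ?_⟩
  obtain ⟨n, w, hw⟩ := hb y i
  have hwm : f i ^ m • w ∈ Ps :=
    Submodule.smul_mem_smul (Ideal.pow_le_pow_right (Nat.le_add_right s k₂) (pow_mem_span f i m)) trivial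
  refine ⟨m + n, ⟨f i ^ m • a w, Submodule.smul_mem_smul (pow_mem_span f i m) trivial⟩, ?_⟩
  have he : e.symm (Submodule.inclusion hle ⟨f i ^ m • a w, Submodule.smul_mem_smul (pow_mem_span f i m) trivial⟩) =
      ⟨f i ^ m • w, hwm⟩ := by
    rw [LinearEquiv.symm_apply_eq]
    exact Subtype.ext (map_smul a _ w).symm
  show b (Ps.subtype (e.symm _)) = _
  rw [he]
  show b (f i ^ m • w) = _
  rw [map_smul, hw, smul_smul, ← pow_add]

/-- Two maps, surjective on the open, in opposite directions, are bijective there. -/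
theorem linj_of_two [IsNoetherianRing A] [Module.Finite A M] {m m' : ℕ}
    (g : ↥(Ideal.span (Set.range f) ^ m • (⊤ : Submodule A M)) →ₗ[A] N) (hg : LSurj f g)
    (h : ↥(Ideal.span (Set.range f) ^ m' • (⊤ : Submodule A N)) →ₗ[A] M) (hh : LSurj f h) :
    LInj f g := by
  intro x hx a
  let g₁ : M →ₗ[A] N := g.comp ((LinearMap.lsmul A M (f a ^ m)).codRestrict _
    fun y => Submodule.smul_mem_smul (pow_mem_span f a m) trivial)
  let h₁ : N →ₗ[A] M := h.comp ((LinearMap.lsmul A N (f a ^ m')).codRestrict _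
    fun y => Submodule.smul_mem_smul (pow_mem_span f a m') trivial)
  have hg₁ : ∀ z : ↥(Ideal.span (Set.range f) ^ m • (⊤ : Submodule A M)), g₁ z.1 = f a ^ m • g z := fun z => by
    rw [← map_smul]
    rfl
  have hh₁ : ∀ z : ↥(Ideal.span (Set.range f) ^ m' • (⊤ : Submodule A N)), h₁ z.1 = f a ^ m' • h z := fun z => by
    rw [← map_smul]
    rfl
  let S := Submonoid.powers (f a)
  let χ := h₁.comp g₁
  let χ' := LocalizedModule.map S χ
  have hs : Function.Surjective χ' := by
    intro z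
    induction z using LocalizedModule.induction_on with
    | h y s =>
      obtain ⟨n₁, z₁, hz₁⟩ := hh y a
      obtain ⟨n₂, z₂, hz₂⟩ := hg z₁.1 a
      have key : χ z₂.1 = f a ^ (m + n₂ + (m' + n₁)) • y := by
        show h₁ (g₁ z₂.1) = _
        rw [hg₁, hz₂, smul_smul, ← pow_add, map_smul, hh₁, hz₁, smul_smul, smul_smul, ← pow_add, ← pow_add,
          show m + n₂ + m' + n₁ = m + n₂ + (m' + n₁) by omega]
      refine ⟨LocalizedModule.mk z₂.1 (⟨f a ^ (m + n₂ + (m' + n₁)), _, rfl⟩ * s), ?_⟩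
      rw [LocalizedModule.map_mk, key]
      exact LocalizedModule.mk_cancel_common_left (⟨f a ^ (m + n₂ + (m' + n₁)), _, rfl⟩ : S) s y
  have hi := OrzechProperty.injective_of_surjective_endomorphism χ' hs
  have h0 : LocalizedModule.mk x.1 (1 : S) = 0 := hi (by
    rw [LocalizedModule.map_mk, map_zero]
    show LocalizedModule.mk (h₁ (g₁ x.1)) _ = 0
    rw [hg₁, hx, smul_zero, map_zero, LocalizedModule.zero_mk])
  obtain ⟨⟨_, n, rfl⟩, hn⟩ := LocalizedModule.mk_eq.mp (h0.trans (LocalizedModule.zero_mk 1).symm)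
  exact ⟨n, Subtype.ext (by simpa [Submonoid.smul_def] using hn)⟩

end Killed

section Pair

variable {A A' : Type u} [CommRing A] [CommRing A'] [Algebra A A']

/-- The two rings have the same quotients modulo the powers of `J`. -/
def SameQuot (J : Ideal A) : Prop :=
  ∀ n : ℕ, (∀ x : A', ∃ a : A, x - algebraMap A A' a ∈ J.map (algebraMap A A') ^ n) ∧
    ∀ a : A, algebraMap A A' a ∈ J.map (algebraMap A A') ^ n → a ∈ J ^ n

theorem sameQuot_of_bijective (φ : A →+* A') (J : Ideal A)
    (hq : ∀ n : ℕ, Function.Bijective (Ideal.quotientMap (Ideal.map φ (J ^ n)) φ Ideal.le_comap_map)) :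
    letI := φ.toAlgebra; SameQuot (A' := A') J := by
  letI := φ.toAlgebra
  intro n
  rw [← Ideal.map_pow]
  refine ⟨fun x => ?_, fun a ha => ?_⟩
  · obtain ⟨y, hy⟩ := (hq n).2 (Ideal.Quotient.mk _ x)
    obtain ⟨a, rfl⟩ := Ideal.Quotient.mk_surjective y
    rw [Ideal.quotientMap_mk, Ideal.Quotient.eq] at hy
    exact ⟨a, by rw [← neg_sub]; exact neg_mem hy⟩
  · rw [← Ideal.Quotient.eq_zero_iff_mem]
    exact (hq n).1 (by rw [Ideal.quotientMap_mk, map_zero, Ideal.Quotient.eq_zero_iff_mem]; exact ha)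

variable {J : Ideal A}

theorem exists_approx (hJ : SameQuot (A' := A') J) {M : Type u} [AddCommGroup M] [Module A M]
    (x : A' ⊗[A] M) (n : ℕ) :
    ∃ z : M, x - (1 : A') ⊗ₜ[A] z ∈ J.map (algebraMap A A') ^ n • (⊤ : Submodule A' (A' ⊗[A] M)) := by
  induction x using TensorProduct.induction_on with
  | zero => exact ⟨0, by simp⟩
  | tmul s z =>
    obtain ⟨a, ha⟩ := (hJ n).1 s
    refine ⟨a • z, ?_⟩
    have : s ⊗ₜ[A] z - (1 : A') ⊗ₜ[A] (a • z) = (s - algebraMap A A' a) • ((1 : A') ⊗ₜ[A] z) := by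
      rw [TensorProduct.smul_tmul', smul_eq_mul, mul_one, TensorProduct.sub_tmul, ← TensorProduct.smul_tmul,
        Algebra.smul_def, mul_one]
    rw [this]
    exact Submodule.smul_mem_smul ha trivial
  | add x y hx hy =>
    obtain ⟨z, hz⟩ := hx
    obtain ⟨w, hw⟩ := hy
    refine ⟨z + w, ?_⟩
    rw [TensorProduct.tmul_add, add_sub_add_comm]
    exact add_mem hz hw

theorem one_tmul_mem {M : Type u} [AddCommGroup M] [Module A M] (n : ℕ) {z : M}
    (hz : z ∈ J ^ n • (⊤ : Submodule A M)) :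
    (1 : A') ⊗ₜ[A] z ∈ J.map (algebraMap A A') ^ n • (⊤ : Submodule A' (A' ⊗[A] M)) := by
  induction hz using Submodule.smul_induction_on' with
  | smul a ha w _ =>
    rw [TensorProduct.tmul_smul, ← algebraMap_smul A' a, ← Ideal.map_pow]
    exact Submodule.smul_mem_smul (Ideal.mem_map_of_mem _ ha) trivial
  | add x _ y _ hx hy =>
    rw [TensorProduct.tmul_add]
    exact add_mem hx hy

theorem flat_of_sameQuot [IsNoetherianRing A] [IsNoetherianRing A'] (hJ : SameQuot (A' := A') J)
    (hJ' : J.map (algebraMap A A') ≤ (⊥ : Ideal A').jacobson) : Module.Flat A A' := by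
  rw [Module.Flat.iff_lTensor_injective]
  intro b hb
  haveI : Module.Finite A b := Module.Finite.iff_fg.mpr hb
  rw [injective_iff_map_eq_zero]
  intro x hx
  set J' := J.map (algebraMap A A') with hJ'def
  obtain ⟨c, hc⟩ := J.exists_pow_inf_eq_pow_smul b
  have hmem : x ∈ (⨅ i : ℕ, J' ^ i • ⊤ : Submodule A' (A' ⊗[A] b)) := by
    rw [Submodule.mem_iInf]
    intro i
    obtain ⟨z, hz⟩ := exists_approx hJ x (i + c)
    have hzJ : (z : A) ∈ J ^ (i + c) := by
      refine (hJ (i + c)).2 _ ?_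
      let g : A' ⊗[A] b →ₗ[A'] A' := (AlgebraTensorModule.rid A A' A').toLinearMap.comp (b.subtype.baseChange A')
      have hg : g x = 0 := by
        show AlgebraTensorModule.rid A A' A' (b.subtype.lTensor A' x) = 0
        rw [hx, map_zero]
      have h1 : g (x - (1 : A') ⊗ₜ[A] z) ∈ J' ^ (i + c) • (⊤ : Submodule A' A') :=
        Submodule.mem_comap.mp ((Submodule.smul_le.mpr fun r hr n _ => by
          rw [Submodule.mem_comap, map_smul]
          exact Submodule.smul_mem_smul hr trivial : J' ^ (i + c) • (⊤ : Submodule A' (A' ⊗[A] b)) ≤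
            (J' ^ (i + c) • (⊤ : Submodule A' A')).comap g) hz)
      have h2 : g ((1 : A') ⊗ₜ[A] z) = algebraMap A A' z := by
        simp [g, Algebra.smul_def]
      rw [map_sub, hg, h2, zero_sub, Ideal.smul_top_eq_map, Algebra.algebraMap_self, Ideal.map_id] at h1
      exact neg_mem_iff.mp h1
    have hzi : z ∈ J ^ i • (⊤ : Submodule A b) := by
      have h1 : (z : A) ∈ J ^ (i + c) • (⊤ : Submodule A A) ⊓ b := ⟨by simpa using hzJ, z.2⟩
      rw [hc (i + c) (Nat.le_add_left c i), Nat.add_sub_cancel] at h1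
      have h2 : (z : A) ∈ J ^ i • b := (Submodule.smul_mono le_rfl inf_le_right : J ^ i • (J ^ c • (⊤ : Submodule A A) ⊓ b) ≤ J ^ i • b) h1
      have h3 : (z : A) ∈ (J ^ i • (⊤ : Submodule A b)).map b.subtype := by
        rwa [Submodule.map_smul'', Submodule.map_subtype_top]
      obtain ⟨w, hw, hwz⟩ := h3
      rwa [Subtype.ext hwz] at hw
    have := add_mem (Submodule.smul_mono_left (Ideal.pow_le_pow_right (Nat.le_add_right i c)) hz) (one_tmul_mem i hzi)
    rwa [sub_add_cancel] at this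
  rw [Ideal.iInf_pow_smul_eq_bot_of_le_jacobson _ hJ'] at hmem
  exact (Submodule.mem_bot A').mp hmem

theorem faithfullyFlat_of_sameQuot [IsNoetherianRing A] [IsNoetherianRing A'] (hJ : SameQuot (A' := A') J)
    (hJ₀ : J ≤ (⊥ : Ideal A).jacobson) (hJ' : J.map (algebraMap A A') ≤ (⊥ : Ideal A').jacobson) :
    Module.FaithfullyFlat A A' := by
  haveI := flat_of_sameQuot hJ hJ'
  refine ⟨fun m hm htop => ?_⟩
  have hJm : J ≤ m := hJ₀.trans (sInf_le ⟨bot_le, hm⟩)
  have h1 : (1 : A') ∈ m • (⊤ : Submodule A A') := by rw [htop]; trivial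
  have key : ∀ x ∈ m • (⊤ : Submodule A A'), ∃ b ∈ m, x - algebraMap A A' b ∈ J.map (algebraMap A A') := by
    intro x hx
    induction hx using Submodule.smul_induction_on' with
    | smul a ha w _ =>
      obtain ⟨c, hc⟩ := (hJ 1).1 w
      rw [pow_one] at hc
      refine ⟨a * c, m.mul_mem_right c ha, ?_⟩
      rw [Algebra.smul_def, map_mul, ← mul_sub]
      exact Ideal.mul_mem_left _ _ hc
    | add x _ y _ hx hy =>
      obtain ⟨b, hb, hb'⟩ := hx
      obtain ⟨c, hc, hc'⟩ := hy
      refine ⟨b + c, add_mem hb hc, ?_⟩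
      rw [map_add, add_sub_add_comm]
      exact add_mem hb' hc'
  obtain ⟨b, hb, hb'⟩ := key 1 h1
  have : 1 - b ∈ J := by
    have := (hJ 1).2 (1 - b) (by rw [pow_one, map_sub, map_one]; exact hb')
    rwa [pow_one] at this
  exact hm.ne_top (m.eq_top_iff_one.mpr (by have := add_mem (hJm this) hb; rwa [sub_add_cancel] at this))

/-- A map over `A'` out of the base change which is surjective on the open can be replaced by one over `A`. -/
theorem exists_hom_descend [IsNoetherianRing A] [IsNoetherianRing A'] (hJ : SameQuot (A' := A') J)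
    (hJ₀ : J ≤ (⊥ : Ideal A).jacobson) (hJ' : J.map (algebraMap A A') ≤ (⊥ : Ideal A').jacobson)
    {r : ℕ} (f : Fin r → A) (hf : J ≤ (Ideal.span (Set.range f)).radical)
    {M N : Type u} [AddCommGroup M] [Module A M] [Module.Finite A M] [AddCommGroup N] [Module A N] [Module.Finite A N]
    {P : Type u} [AddCommGroup P] [Module A' P] [Module.Finite A' P]
    (a : P →ₗ[A'] A' ⊗[A] M) (b : P →ₗ[A'] A' ⊗[A] N)
    (ha : LInj (algebraMap A A' ∘ f) a) (ha' : LSurj (algebraMap A A' ∘ f) a)
    (hb : LSurj (algebraMap A A' ∘ f) b) :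
    ∃ (m : ℕ) (g : ↥(Ideal.span (Set.range f) ^ m • (⊤ : Submodule A M)) →ₗ[A] N), LSurj f g := by
  haveI := faithfullyFlat_of_sameQuot hJ hJ₀ hJ'
  set f' := algebraMap A A' ∘ f
  obtain ⟨m, g₀, hg₀⟩ := exists_hom_of_roof f' a b ha ha' hb
  let Q : Submodule A M := Ideal.span (Set.range f) ^ m • ⊤
  haveI : Module.Finite A Q := Module.Finite.iff_fg.mpr (IsNoetherian.noetherian _)
  haveI : Module.FinitePresentation A Q := Module.finitePresentation_of_finite A Q
  have hspan : Ideal.span (Set.range f') = (Ideal.span (Set.range f)).map (algebraMap A A') := by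
    rw [Ideal.map_span, ← Set.range_comp]
  let j := Q.subtype.baseChange A'
  have hj : ∀ x, j x ∈ Ideal.span (Set.range f') ^ m • (⊤ : Submodule A' (A' ⊗[A] M)) := fun x => by
    induction x using TensorProduct.induction_on with
    | zero => rw [map_zero]; exact zero_mem _
    | tmul s z =>
      rw [show s ⊗ₜ[A] z = s • ((1 : A') ⊗ₜ[A] z) by rw [TensorProduct.smul_tmul', smul_eq_mul, mul_one],
        map_smul, hspan]
      exact Submodule.smul_mem _ s (one_tmul_mem m z.2)
    | add x y hx hy => rw [map_add]; exact add_mem hx hy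
  let g₁ : A' ⊗[A] Q →ₗ[A'] A' ⊗[A] N := g₀.comp (j.codRestrict _ hj)
  have hg₁ : LSurj f' g₁ := by
    intro y i
    obtain ⟨n, x, hx⟩ := hg₀ y i
    have hpre : ∀ z : A' ⊗[A] M, ∃ z' : A' ⊗[A] Q, j z' = f' i ^ m • z := fun z => by
      induction z using TensorProduct.induction_on with
      | zero => exact ⟨0, by simp⟩
      | tmul s z =>
        refine ⟨s ⊗ₜ[A] ⟨f i ^ m • z, Submodule.smul_mem_smul (pow_mem_span f i m) trivial⟩, ?_⟩
        show s ⊗ₜ[A] (f i ^ m • z) = _
        rw [TensorProduct.tmul_smul, ← algebraMap_smul A' (f i ^ m), map_pow]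
        rfl
      | add x y hx hy =>
        obtain ⟨x', hx'⟩ := hx
        obtain ⟨y', hy'⟩ := hy
        exact ⟨x' + y', by rw [map_add, hx', hy', smul_add]⟩
    obtain ⟨z', hz'⟩ := hpre x.1
    refine ⟨m + n, z', ?_⟩
    show g₀ _ = _
    rw [show j.codRestrict _ hj z' = f' i ^ m • x from Subtype.ext hz', map_smul, hx, smul_smul, ← pow_add]
  obtain ⟨k, hk⟩ := hg₁.exists_pow
  obtain ⟨s, hs⟩ := Ideal.exists_pow_le_of_le_radical_of_fg hf (IsNoetherian.noetherian _)
  set J' := J.map (algebraMap A A')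
  have hJk : J' ^ (s * k + 1) ≤ J' * Ideal.span (Set.range f') ^ k := by
    rw [pow_succ', pow_mul]
    refine Ideal.mul_mono_right (Ideal.pow_right_mono ?_ k)
    rw [hspan, ← Ideal.map_pow]
    exact Ideal.map_mono hs
  have hbc := Module.FinitePresentation.isBaseChange_map A Q N A'
  have happrox : ∀ G : A' ⊗[A] Q →ₗ[A'] A' ⊗[A] N, ∃ g : Q →ₗ[A] N, ∀ q,
      G q - g.baseChange A' q ∈ J' ^ (s * k + 1) • (⊤ : Submodule A' (A' ⊗[A] N)) := by
    intro G
    obtain ⟨g, hg⟩ := exists_approx hJ (hbc.equiv.symm G) (s * k + 1)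
    refine ⟨g, fun q => ?_⟩
    have h1 := Submodule.mem_map_of_mem (f := (LinearMap.applyₗ q).comp hbc.equiv.toLinearMap) hg
    rw [Submodule.map_smul''] at h1
    have h2 : _ ∈ J' ^ (s * k + 1) • (⊤ : Submodule A' (A' ⊗[A] N)) := (Submodule.smul_mono le_rfl le_top) h1
    simpa [IsBaseChange.equiv_tmul] using h2
  obtain ⟨g, hg⟩ := happrox g₁
  refine ⟨m, g, ?_⟩
  have hT : Ideal.span (Set.range f') ^ k • (⊤ : Submodule A' (A' ⊗[A] N)) ≤ LinearMap.range (g.baseChange A') := by
    refine Submodule.le_of_le_smul_of_le_jacobson_bot (IsNoetherian.noetherian _) hJ' fun y hy => ?_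
    obtain ⟨q, rfl⟩ := hk hy
    rw [show g₁ q = g.baseChange A' q + (g₁ q - g.baseChange A' q) by abel]
    refine Submodule.add_mem_sup ⟨q, rfl⟩ ?_
    rw [← Submodule.mul_smul]
    exact Submodule.smul_mono_left hJk (hg q)
  intro y i
  have hy : (1 : A') ⊗ₜ[A] (f i ^ k • y) ∈ LinearMap.range (g.baseChange A') := hT (by
    rw [TensorProduct.tmul_smul, ← algebraMap_smul A' (f i ^ k), map_pow]
    exact Submodule.smul_mem_smul (pow_mem_span f' i k) trivial)
  obtain ⟨q, hq⟩ := hy
  have h0 : (1 : A') ⊗ₜ[A] Submodule.Quotient.mk (p := LinearMap.range g) (f i ^ k • y) =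
      ((LinearMap.range g).mkQ.baseChange A') (g.baseChange A' q) := by rw [hq]; rfl
  rw [← LinearMap.comp_apply, ← LinearMap.baseChange_comp, LinearMap.range_mkQ_comp, LinearMap.baseChange_zero,
    LinearMap.zero_apply, ← TensorProduct.tmul_zero _ (1 : A')] at h0
  obtain ⟨x, hx⟩ := (Submodule.Quotient.mk_eq_zero _).mp
    (Module.FaithfullyFlat.tensorProduct_mk_injective (A := A) (B := A') _ h0)
  exact ⟨k, x, hx⟩

end Pair

end Groth.Agent.ZarPair
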